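import Cfsg.Agent.Spor.Fi24N1.D0

set_option autoImplicit false
set_option maxRecDepth 100000000
set_option Elab.async false

namespace Cfsg.Agent.Spor.Fi24N1

theorem ok0 : Net.okb 1 n0 = true := by decide +kernel

theorem ok1 : Net.okb 1 n1 = true := by decide +kernel

theorem ok2 : Net.okb 1 n2 = true := by decide +kernel

theorem ok3 : Net.okb 1 n3 = true := by decide +kernel

theorem ok4 : Net.okb 1 n4 = true := by decide +kernel

theorem ok5 : Net.okb 1 n5 = true := by decide +kernel

theorem ok6 : Net.okb 1 n6 = true := by decide +kernel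

theorem ok7 : Net.okb 1 n7 = true := by decide +kernel

theorem ok8 : Net.okb 1 n8 = true := by decide +kernel

theorem ok9 : Net.okb 1 n9 = true := by decide +kernel

theorem ok10 : Net.okb 1 n10 = true := by decide +kernel

theorem ok11 : Net.okb 1 n11 = true := by decide +kernel

theorem rel0 : T.rel 1 [1, 1] 0 1 = true := by decide +kernel

theorem rel1 : T.rel 1 [2, 2] 0 1 = true := by decide +kernel

theorem rel2 : T.rel 1 [3, 3] 0 1 = true := by decide +kernel

theorem rel3 : T.rel 1 [4, 4] 0 1 = true := by decide +kernel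

theorem rel4 : T.rel 1 [5, 5] 0 1 = true := by decide +kernel

theorem rel5 : T.rel 1 [6, 6] 0 1 = true := by decide +kernel

theorem rel6 : T.rel 1 [7, 7] 0 1 = true := by decide +kernel

theorem rel7 : T.rel 1 [8, 8] 0 1 = true := by decide +kernel

theorem rel8 : T.rel 1 [9, 9] 0 1 = true := by decide +kernel

theorem rel9 : T.rel 1 [10, 10] 0 1 = true := by decide +kernel

theorem rel10 : T.rel 1 [11, 11] 0 1 = true := by decide +kernel

theorem rel11 : T.rel 1 [12, 12] 0 1 = true := by decide +kernel

theorem rel12 : T.rel 1 [2, 1, 2, 1, 2, 1] 0 1 = true := by decide +kernel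

theorem rel13 : T.rel 1 [3, 1, 3, 1] 0 1 = true := by decide +kernel

theorem rel14 : T.rel 1 [4, 1, 4, 1] 0 1 = true := by decide +kernel

theorem rel15 : T.rel 1 [5, 1, 5, 1] 0 1 = true := by decide +kernel

theorem rel16 : T.rel 1 [6, 1, 6, 1] 0 1 = true := by decide +kernel

theorem rel17 : T.rel 1 [7, 1, 7, 1] 0 1 = true := by decide +kernel

theorem rel18 : T.rel 1 [8, 1, 8, 1] 0 1 = true := by decide +kernel

theorem rel19 : T.rel 1 [9, 1, 9, 1] 0 1 = true := by decide +kernel

theorem rel20 : T.rel 1 [10, 1, 10, 1] 0 1 = true := by decide +kernel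

theorem rel21 : T.rel 1 [11, 1, 11, 1] 0 1 = true := by decide +kernel

theorem rel22 : T.rel 1 [12, 1, 12, 1, 12, 1] 0 1 = true := by decide +kernel

theorem rel23 : T.rel 1 [3, 2, 3, 2, 3, 2] 0 1 = true := by decide +kernel

theorem rel24 : T.rel 1 [4, 2, 4, 2] 0 1 = true := by decide +kernel

theorem rel25 : T.rel 1 [5, 2, 5, 2] 0 1 = true := by decide +kernel

theorem rel26 : T.rel 1 [6, 2, 6, 2] 0 1 = true := by decide +kernel

theorem rel27 : T.rel 1 [7, 2, 7, 2] 0 1 = true := by decide +kernel

theorem rel28 : T.rel 1 [8, 2, 8, 2] 0 1 = true := by decide +kernel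

theorem rel29 : T.rel 1 [9, 2, 9, 2] 0 1 = true := by decide +kernel

theorem rel30 : T.rel 1 [10, 2, 10, 2] 0 1 = true := by decide +kernel

theorem rel31 : T.rel 1 [11, 2, 11, 2] 0 1 = true := by decide +kernel

theorem rel32 : T.rel 1 [12, 2, 12, 2] 0 1 = true := by decide +kernel

theorem rel33 : T.rel 1 [4, 3, 4, 3, 4, 3] 0 1 = true := by decide +kernel

theorem rel34 : T.rel 1 [5, 3, 5, 3] 0 1 = true := by decide +kernel

theorem rel35 : T.rel 1 [6, 3, 6, 3] 0 1 = true := by decide +kernel

theorem rel36 : T.rel 1 [7, 3, 7, 3] 0 1 = true := by decide +kernel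

theorem rel37 : T.rel 1 [8, 3, 8, 3] 0 1 = true := by decide +kernel

theorem rel38 : T.rel 1 [9, 3, 9, 3] 0 1 = true := by decide +kernel

theorem rel39 : T.rel 1 [10, 3, 10, 3] 0 1 = true := by decide +kernel

theorem rel40 : T.rel 1 [11, 3, 11, 3] 0 1 = true := by decide +kernel

theorem rel41 : T.rel 1 [12, 3, 12, 3] 0 1 = true := by decide +kernel

theorem rel42 : T.rel 1 [5, 4, 5, 4, 5, 4] 0 1 = true := by decide +kernel

theorem rel43 : T.rel 1 [6, 4, 6, 4] 0 1 = true := by decide +kernel

theorem rel44 : T.rel 1 [7, 4, 7, 4] 0 1 = true := by decide +kernel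

theorem rel45 : T.rel 1 [8, 4, 8, 4, 8, 4] 0 1 = true := by decide +kernel

theorem rel46 : T.rel 1 [9, 4, 9, 4] 0 1 = true := by decide +kernel

theorem rel47 : T.rel 1 [10, 4, 10, 4] 0 1 = true := by decide +kernel

theorem rel48 : T.rel 1 [11, 4, 11, 4] 0 1 = true := by decide +kernel

theorem rel49 : T.rel 1 [12, 4, 12, 4] 0 1 = true := by decide +kernel

theorem rel50 : T.rel 1 [6, 5, 6, 5, 6, 5] 0 1 = true := by decide +kernel

theorem rel51 : T.rel 1 [7, 5, 7, 5] 0 1 = true := by decide +kernel

theorem rel52 : T.rel 1 [8, 5, 8, 5] 0 1 = true := by decide +kernel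

theorem rel53 : T.rel 1 [9, 5, 9, 5] 0 1 = true := by decide +kernel

theorem rel54 : T.rel 1 [10, 5, 10, 5] 0 1 = true := by decide +kernel

theorem rel55 : T.rel 1 [11, 5, 11, 5] 0 1 = true := by decide +kernel

theorem rel56 : T.rel 1 [12, 5, 12, 5] 0 1 = true := by decide +kernel

theorem rel57 : T.rel 1 [7, 6, 7, 6, 7, 6] 0 1 = true := by decide +kernel

theorem rel58 : T.rel 1 [8, 6, 8, 6] 0 1 = true := by decide +kernel

theorem rel59 : T.rel 1 [9, 6, 9, 6] 0 1 = true := by decide +kernel

theorem rel60 : T.rel 1 [10, 6, 10, 6] 0 1 = true := by decide +kernel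

theorem rel61 : T.rel 1 [11, 6, 11, 6] 0 1 = true := by decide +kernel

theorem rel62 : T.rel 1 [12, 6, 12, 6] 0 1 = true := by decide +kernel

theorem rel63 : T.rel 1 [8, 7, 8, 7] 0 1 = true := by decide +kernel

theorem rel64 : T.rel 1 [9, 7, 9, 7] 0 1 = true := by decide +kernel

theorem rel65 : T.rel 1 [10, 7, 10, 7, 10, 7] 0 1 = true := by decide +kernel

theorem rel66 : T.rel 1 [11, 7, 11, 7] 0 1 = true := by decide +kernel

theorem rel67 : T.rel 1 [12, 7, 12, 7] 0 1 = true := by decide +kernel

theorem rel68 : T.rel 1 [9, 8, 9, 8, 9, 8] 0 1 = true := by decide +kernel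

theorem rel69 : T.rel 1 [10, 8, 10, 8] 0 1 = true := by decide +kernel

theorem rel70 : T.rel 1 [11, 8, 11, 8] 0 1 = true := by decide +kernel

theorem rel71 : T.rel 1 [12, 8, 12, 8] 0 1 = true := by decide +kernel

theorem rel72 : T.rel 1 [10, 9, 10, 9] 0 1 = true := by decide +kernel

theorem rel73 : T.rel 1 [11, 9, 11, 9] 0 1 = true := by decide +kernel

theorem rel74 : T.rel 1 [12, 9, 12, 9] 0 1 = true := by decide +kernel

theorem rel75 : T.rel 1 [11, 10, 11, 10] 0 1 = true := by decide +kernel

theorem rel76 : T.rel 1 [12, 10, 12, 10] 0 1 = true := by decide +kernel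

theorem rel77 : T.rel 1 [12, 11, 12, 11, 12, 11] 0 1 = true := by decide +kernel

theorem rel78 : T.rel 1 [11] 0 1 = true := by decide +kernel

theorem hcov : T.treeCov (ones 1) L 1 = true := by decide +kernel

theorem hg : lall (fun z => band (memL L z) (band (sub (ones 1) (T.let z).cl) (T.closed (ones 1) z))) gs = true := by decide +kernel

theorem hivk : ivOk (2 * 12) EX IV = true := by decide +kernel

theorem hrt : RT.ok (2 * 12) EX RL = true := by decide +kernel

theorem hdefs : defs F 111 = true := by decide +kernel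

noncomputable def st0_l : List Nat := [nat_lit 0x1001, nat_lit 0x6f00001002, nat_lit 0x20007000000c03, nat_lit 0x80000100000003, nat_lit 0x80007180002403, nat_lit 0xa0000100001c03, nat_lit 0x3001, nat_lit 0x7500003002, nat_lit 0x76800018001c2000070007680001806, nat_lit 0xe90007780000c03, nat_lit 0x7800002802, nat_lit 0x3800010000f30000480003c05, nat_lit 0x4001, nat_lit 0x7b00004002, nat_lit 0x7c800038001ce0000f0007c80003806, nat_lit 0x1f4000f40007d80002004, nat_lit 0x30007e00039403, nat_lit 0x8003fc02, nat_lit 0x5000024001010000980005405, nat_lit 0x5801, nat_lit 0x8200005802, nat_lit 0x140008300005403, nat_lit 0x1a0008180006c03, nat_lit 0x7001, nat_lit 0x8600007002, nat_lit 0x878000600020e000190008780006006, nat_lit 0x8800006002, nat_lit 0x6800028001120000a80006c05, nat_lit 0x7801, nat_lit 0x8b00007802, nat_lit 0x8c800068002120001b0008c80006806, nat_lit 0x234001140008d80005004, nat_lit 0x8e000468002140011b0008e80004806, nat_lit 0x980047c02, nat_lit 0x200008080008403, nat_lit 0x8800040001210001080008c05, nat_lit 0x9001,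 nat_lit 0x9300009002, nat_lit 0x220009400008c03, nat_lit 0x28000928000a403, nat_lit 0x28000958000a403, nat_lit 0xa00004400123000118000a405, nat_lit 0x2a0001100009c03, nat_lit 0xb001, nat_lit 0x9a0000b002, nat_lit 0x9b80009800252000270009b80009806, nat_lit 0x1330009c80008c03, nat_lit 0x9d0000a802, nat_lit 0x2e000988000bc03, nat_lit 0x2e000968000bc03, nat_lit 0xb8000500013d000148000bc05, nat_lit 0xc001, nat_lit 0xa20000c002, nat_lit 0xa38000b80025e0002f000a38000b806, nat_lit 0x29000142000a48000a004, nat_lit 0xa50005200027c00149000a580008806, nat_lit 0x2980014a000a4000500002920014b000a680008008, nat_lit 0x1080053c02, nat_lit 0x32000808000cc03, nat_lit 0x32000908000cc03, nat_lit 0x34000a98000d403, nat_lit 0xd00006400151000198000d405, nat_lit 0xd801, nat_lit 0xad0000d802, nat_lit 0x34000ae0000d403, nat_lit 0x3a000ac8000ec03, nat_lit 0x3a000af8000ec03, nat_lit 0xe800068001550001a8000ec05, nat_lit 0x3c0001a0000e403, nat_lit 0xf801, nat_lit 0xb40000f802, nat_lit 0xb58000e0002ba00039000b58000e006, nat_lit 0x167000b68000d403, nat_lit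 0xb70000f002, nat_lit 0x3a000b80000ec03, nat_lit 0x40000b280010403, nat_lit 0x40000b080010403, nat_lit 0x40000b180010403, nat_lit 0x10000074001570001d80010405, nat_lit 0x42000bd80010c03, nat_lit 0x42000ba80010c03, nat_lit 0x42000bb80010c03, nat_lit 0x10800080001730002080010c05, nat_lit 0x11001, nat_lit 0xc200011002, nat_lit 0xc3800108002f200043000c380010806, nat_lit 0x31000182000c480010004, nat_lit 0xc5000620002f800189000c58000e806, nat_lit 0x3180018a000c40005f8003120018b000c68000d008, nat_lit 0xc70006300031400188000c0000624003160018d000c78000c80a, nat_lit 0x1980064402, nat_lit 0x460008080011c03, nat_lit 0x460009080011c03, nat_lit 0x46000a880011c03, nat_lit 0x48000ca80012403, nat_lit 0x48000cb80012403, nat_lit 0x1200008c001930002380012405, nat_lit 0x12801, nat_lit 0xd000012802, nat_lit 0x48000d100012403, nat_lit 0x4e000cd80013c03, nat_lit 0x4e000cf80013c03, nat_lit 0x4e000d280013c03, nat_lit 0x13800090001990002480013c05, nat_lit 0x500002400013403, nat_lit 0x14801, nat_lit 0xd800014802, nat_lit 0xd9800130003460004d000d980013006,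 nat_lit 0x1af000da80012403, nat_lit 0xdb00014002, nat_lit 0x4e000dc00013c03, nat_lit 0x54000d680015403, nat_lit 0x54000d480015403, nat_lit 0x54000d580015403, nat_lit 0x54000dd80015403, nat_lit 0x1500009c0019d0002780015405, nat_lit 0x56000e280015c03, nat_lit 0x56000de80015c03, nat_lit 0x56000df80015c03, nat_lit 0x56000e080015c03, nat_lit 0x158000a8001a70002a80015c05, nat_lit 0x58000e780016403, nat_lit 0x58000e380016403, nat_lit 0x58000e480016403, nat_lit 0x58000e580016403, nat_lit 0x160000ac001c30002b80016405, nat_lit 0x16801, nat_lit 0xed00016802, nat_lit 0xee8001600039a00059000ee80016006, nat_lit 0x3bc001d8000ef80015804, nat_lit 0xf0000778003a0001df000f080015006, nat_lit 0x3c4001e0000ef000748003be001e1000f180013808, nat_lit 0xf2000788003c0001de000ea00077c003c2001e3000f28001200a, nat_lit 0x3cc001e4000f1000780003bc001d6000ef800784003c6001e5000f38001180c, nat_lit 0x238007a402, nat_lit 0x5c0008080017403, nat_lit 0x5c0009080017403, nat_lit 0x5c000a880017403, nat_lit 0x5c000c980017403, nat_lit 0x5e000f680017c03, nat_lit 0x5e000f780017c03,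 nat_lit 0x5e000f880017c03, nat_lit 0x178000b8001eb0002e80017c05, nat_lit 0x18001, nat_lit 0xfe00018002, nat_lit 0x5e000ff00017c03, nat_lit 0x64000fa80019403, nat_lit 0x64000fb80019403, nat_lit 0x64000fd80019403, nat_lit 0x640010080019403, nat_lit 0x190000bc001f30002f80019405, nat_lit 0x660002f00018c03, nat_lit 0x1a001, nat_lit 0x1070001a002, nat_lit 0x108800188003fe000630010880018806, nat_lit 0x20d0010980017c03, nat_lit 0x10a00019802, nat_lit 0x640010b00019403, nat_lit 0x6a001018001ac03, nat_lit 0x6a001058001ac03, nat_lit 0x6a001038001ac03, nat_lit 0x6a001048001ac03, nat_lit 0x6a0010c8001ac03, nat_lit 0x1a8000c8001f9000328001ac05, nat_lit 0x6c001128001b403, nat_lit 0x6c0010e8001b403, nat_lit 0x6c0010f8001b403, nat_lit 0x6c001108001b403, nat_lit 0x6c001118001b403, nat_lit 0x1b0000d400205000358001b405, nat_lit 0x6e001188001bc03, nat_lit 0x6e001138001bc03, nat_lit 0x6e001148001bc03, nat_lit 0x6e001158001bc03, nat_lit 0x6e001168001bc03, nat_lit 0x1b8000d80021b000368001bc05, nat_lit 0x700011e8001c403, nat_lit 0x70001198001c403,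 nat_lit 0x700011a8001c403, nat_lit 0x700011b8001c403, nat_lit 0x700011c8001c403, nat_lit 0x1c0000dc0022f000378001c405, nat_lit 0x1c801, nat_lit 0x1250001c802, nat_lit 0x1268001c00047600071001268001c006, nat_lit 0x49c00248001278001b804, nat_lit 0x1280009380047c0024f001288001b006, nat_lit 0x4a400250001270009000049e00251001298001a808, nat_lit 0x12a000948004a00024e0012100093c004a2002530012a8001900a, nat_lit 0x4ac00254001290009400049c0024400127800944004a6002550012b8001780c, nat_lit 0x12c000958004a800252001280009380048c0024f0012880094c004aa002570012c8001700e, nat_lit 0x2e80096c02, nat_lit 0x74000808001d403, nat_lit 0x74000908001d403, nat_lit 0x74000a88001d403, nat_lit 0x74000c98001d403, nat_lit 0x74000f58001d403, nat_lit 0x760012f8001dc03, nat_lit 0x76001308001dc03, nat_lit 0x76001318001dc03, nat_lit 0x76001328001dc03, nat_lit 0x1d8000e80025d0003a8001dc05, nat_lit 0x1e001, nat_lit 0x1390001e002, nat_lit 0x760013a0001dc03, nat_lit 0x7c001348001f403, nat_lit 0x7c001358001f403, nat_lit 0x7c001368001f403, nat_lit 0x7c001388001f403,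 nat_lit 0x7c0013b8001f403, nat_lit 0x1f0000ec002670003b8001f405, nat_lit 0x7e0003b0001ec03, nat_lit 0x20001, nat_lit 0x14300020002, nat_lit 0x1448001e8004ea0007b001448001e806, nat_lit 0x285001458001dc03, nat_lit 0x1460001f802, nat_lit 0x7c001470001f403, nat_lit 0x820013c80020c03, nat_lit 0x820013d80020c03, nat_lit 0x820014180020c03, nat_lit 0x820013f80020c03, nat_lit 0x820014080020c03, nat_lit 0x820014880020c03, nat_lit 0x208000f80026f0003e80020c05, nat_lit 0x840014980021403, nat_lit 0x840014f80021403, nat_lit 0x840014b80021403, nat_lit 0x840014c80021403, nat_lit 0x840014d80021403, nat_lit 0x840014e80021403, nat_lit 0x210001040027d0004180021405, nat_lit 0x860015680021c03, nat_lit 0x860015180021c03, nat_lit 0x860015280021c03, nat_lit 0x860015380021c03, nat_lit 0x860015480021c03, nat_lit 0x860015580021c03, nat_lit 0x21800108002950004280021c05, nat_lit 0x880015d80022403, nat_lit 0x880015780022403, nat_lit 0x880015880022403, nat_lit 0x880015980022403, nat_lit 0x880015a80022403, nat_lit 0x880015b80022403, nat_lit 0x2200010c002a10004380022405,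 nat_lit 0x8a0016480022c03, nat_lit 0x8a0015e80022c03, nat_lit 0x8a0015f80022c03, nat_lit 0x8a0016080022c03, nat_lit 0x8a0016180022c03, nat_lit 0x8a0016280022c03, nat_lit 0x22800110002b90004480022c05, nat_lit 0x23001, nat_lit 0x16c00023002, nat_lit 0x16d8002280058e0008b0016d80022806, nat_lit 0x5b8002d60016e80022004, nat_lit 0x16f000b7000594002dd0016f80021806, nat_lit 0x5c0002de0016e000b30005ba002df0017080021008, nat_lit 0x171000b80005bc002dc00167000b74005be002e1001718002080a, nat_lit 0x5c8002e200170000b78005b8002d00016e800b7c005c2002e3001728001f00c, nat_lit 0x173000b90005c4002e00016f000b70005a4002dd0016f800b84005c6002e5001738001d80e, nat_lit 0x5d0002e600172000b88005c0002de0016e000b50005ba002df00170800b8c005ca002e7001748001d010, nat_lit 0x3a800bac02, nat_lit 0x8e0008080023c03, nat_lit 0x8e0009080023c03, nat_lit 0x8e000a880023c03, nat_lit 0x900017780024403, nat_lit 0x900017880024403, nat_lit 0x2400011c001930004780024405, nat_lit 0x24801, nat_lit 0x17d00024802, nat_lit 0x900017e00024403, nat_lit 0x960017a80025c03, nat_lit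 0x960017c80025c03, nat_lit 0x960017f80025c03, nat_lit 0x25800120002f30004880025c05, nat_lit 0x980004800025403, nat_lit 0x26801, nat_lit 0x18500026802, nat_lit 0x186800250005fa000950018680025006, nat_lit 0x3090018780024403, nat_lit 0x18800026002, nat_lit 0x960018900025c03, nat_lit 0x9c0018380027403, nat_lit 0x9c0018180027403, nat_lit 0x9c0018280027403, nat_lit 0x9c0018a80027403, nat_lit 0x2700012c002f70004b80027405, nat_lit 0x9e0018f80027c03, nat_lit 0x9e0018b80027c03, nat_lit 0x9e0018c80027c03, nat_lit 0x9e0018d80027c03, nat_lit 0x27800138003010004e80027c05, nat_lit 0xa00019480028403, nat_lit 0xa00019080028403, nat_lit 0xa00019180028403, nat_lit 0xa00019280028403, nat_lit 0x2800013c0031d0004f80028405, nat_lit 0x28801, nat_lit 0x19a00028802, nat_lit 0x19b8002800064e000a10019b80028006, nat_lit 0x670003320019c80027804, nat_lit 0x19d000ce000654003390019d80027006, nat_lit 0x6780033a0019c000cb0006720033b0019e80025808, nat_lit 0x19f000cf0006740033800197000ce4006760033d0019f8002400a, nat_lit 0x6800033e0019e000ce800670003300019c800cec0067a0033f001a08002380c,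 nat_lit 0x47800d0c02, nat_lit 0xa40008080029403, nat_lit 0xa40009080029403, nat_lit 0xa4000a880029403, nat_lit 0xa4000c980029403, nat_lit 0xa6001a380029c03, nat_lit 0xa6001a480029c03, nat_lit 0xa6001a580029c03, nat_lit 0x29800148003450005280029c05, nat_lit 0x2a001, nat_lit 0x1ab0002a002, nat_lit 0xa6001ac00029c03, nat_lit 0xac001a78002b403, nat_lit 0xac001a88002b403, nat_lit 0xac001aa8002b403, nat_lit 0xac001ad8002b403, nat_lit 0x2b00014c0034d000538002b405, nat_lit 0xae000530002ac03, nat_lit 0x2c001, nat_lit 0x1b40002c002, nat_lit 0x1b58002a8006b2000ab001b58002a806, nat_lit 0x367001b680029c03, nat_lit 0x1b70002b802, nat_lit 0xac001b80002b403, nat_lit 0xb2001ae8002cc03, nat_lit 0xb2001b28002cc03, nat_lit 0xb2001b08002cc03, nat_lit 0xb2001b18002cc03, nat_lit 0xb2001b98002cc03, nat_lit 0x2c80015800353000568002cc05, nat_lit 0xb4001bf8002d403, nat_lit 0xb4001bb8002d403, nat_lit 0xb4001bc8002d403, nat_lit 0xb4001bd8002d403, nat_lit 0xb4001be8002d403, nat_lit 0x2d0001640035f000598002d405, nat_lit 0xb6001c58002dc03, nat_lit 0xb6001c08002dc03,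 nat_lit 0xb6001c18002dc03, nat_lit 0xb6001c28002dc03, nat_lit 0xb6001c38002dc03, nat_lit 0x2d800168003750005a8002dc05, nat_lit 0xb8001cb8002e403, nat_lit 0xb8001c68002e403, nat_lit 0xb8001c78002e403, nat_lit 0xb8001c88002e403, nat_lit 0xb8001c98002e403, nat_lit 0x2e00016c003890005b8002e405, nat_lit 0x2e801, nat_lit 0x1d20002e802, nat_lit 0x1d38002e00072a000b9001d38002e006, nat_lit 0x750003a2001d48002d804, nat_lit 0x1d5000ea000730003a9001d58002d006, nat_lit 0x758003aa001d4000e6800752003ab001d68002c808, nat_lit 0x1d7000eb000754003a8001ce000ea400756003ad001d78002b00a, nat_lit 0x760003ae001d6000ea8007500039e001d4800eac0075a003af001d88002980c, nat_lit 0x1d9000ec00075c003ac001d5000ea000740003a9001d5800eb40075e003b1001d98002900e, nat_lit 0x52800ed402, nat_lit 0xbc000808002f403, nat_lit 0xbc000908002f403, nat_lit 0xbc000a88002f403, nat_lit 0xbc000c98002f403, nat_lit 0xbc000f58002f403, nat_lit 0xbc0012e8002f403, nat_lit 0xbe001dc8002fc03, nat_lit 0xbe001dd8002fc03, nat_lit 0xbe001de8002fc03, nat_lit 0xbe001df8002fc03, nat_lit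 0xbe001e08002fc03, nat_lit 0x2f800178002ed0005e8002fc05, nat_lit 0x30001, nat_lit 0x1e800030002, nat_lit 0xbe001e90002fc03, nat_lit 0xc4001e280031403, nat_lit 0xc4001e380031403, nat_lit 0xc4001e480031403, nat_lit 0xc4001e580031403, nat_lit 0xc4001e780031403, nat_lit 0xc4001ea80031403, nat_lit 0x3100017c003c30005f80031405, nat_lit 0xc60005f00030c03, nat_lit 0x32001, nat_lit 0x1f300032002, nat_lit 0x1f4800308007a6000c3001f480030806, nat_lit 0x3e5001f58002fc03, nat_lit 0x1f600031802, nat_lit 0xc4001f700031403, nat_lit 0xca001eb80032c03, nat_lit 0xca001ec80032c03, nat_lit 0xca001ed80032c03, nat_lit 0xca001f180032c03, nat_lit 0xca001ef80032c03, nat_lit 0xca001f080032c03, nat_lit 0xca001f880032c03, nat_lit 0x32800188003cd0006280032c05, nat_lit 0xcc001f980033403, nat_lit 0xcc001fa80033403, nat_lit 0xcc0020080033403, nat_lit 0xcc001fc80033403, nat_lit 0xcc001fd80033403, nat_lit 0xcc001fe80033403, nat_lit 0xcc001ff80033403, nat_lit 0x33000194003dd0006580033405, nat_lit 0xce0020180033c03, nat_lit 0xce0020880033c03, nat_lit 0xce0020380033c03,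 nat_lit 0xce0020480033c03, nat_lit 0xce0020580033c03, nat_lit 0xce0020680033c03, nat_lit 0xce0020780033c03, nat_lit 0x33800198003f70006680033c05, nat_lit 0xd00021080034403, nat_lit 0xd00020a80034403, nat_lit 0xd00020b80034403, nat_lit 0xd00020c80034403, nat_lit 0xd00020d80034403, nat_lit 0xd00020e80034403, nat_lit 0xd00020f80034403, nat_lit 0x3400019c004050006780034405, nat_lit 0xd20021880034c03, nat_lit 0xd20021180034c03, nat_lit 0xd20021280034c03, nat_lit 0xd20021380034c03, nat_lit 0xd20021480034c03, nat_lit 0xd20021580034c03, nat_lit 0xd20021680034c03, nat_lit 0x348001a0004130006880034c05, nat_lit 0xd40022080035403, nat_lit 0xd40021980035403, nat_lit 0xd40021a80035403, nat_lit 0xd40021b80035403, nat_lit 0xd40021c80035403, nat_lit 0xd40021d80035403, nat_lit 0xd40021e80035403, nat_lit 0x350001a40042f0006980035405, nat_lit 0x35801, nat_lit 0x22900035802, nat_lit 0x22a8003500087e000d50022a80035006, nat_lit 0x8ac004500022b80034804, nat_lit 0x22c00115800884004570022c80034006, nat_lit 0x8b4004580022b001110008ae004590022d80033808,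 nat_lit 0x22e001168008b0004560022300115c008b20045b0022e8003300a, nat_lit 0x8bc0045c0022d001160008ac004480022b801164008b60045d0022f8003280c, nat_lit 0x230001178008b80045a0022c00115800894004570022c80116c008ba0045f002308003100e, nat_lit 0x8c4004600022f001170008b4004580022b001130008ae004590022d801174008be00461002318002f810, nat_lit 0x232001188008c00045e0022e001168008b0004560022700115c008b20045b0022e80117c008c200463002328002f012, nat_lit 0x5e80119c02, nat_lit 0x36001, nat_lit 0x6c8011ac02, nat_lit 0x37001, nat_lit 0x23700037002, nat_lit 0x238800368008da000db0023880036806, nat_lit 0x6d8011cc02]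
theorem st0 : band (steps F IV RT base st0_l 111) (Nat.beq (Nat.add 111 (llen st0_l)) 571) = true := by decide +kernel

theorem ep0a : T.treePath [] (Nat.shiftLeft 1 0) 1 = true := by decide +kernel

theorem ep0b : T.treePath [] (Nat.shiftLeft 1 0) 1 = true := by decide +kernel

theorem ep0c : band (lall (fun z => Nat.ble z 255) ([] ++ 1 :: [])) (concl F IV 571 0x40001 (encA ([] ++ 1 :: []) 0)) = true := by decide +kernel

theorem ep0d : band (Rule.ok (2 * 12) EX [] ⟨lapp [] [], [], 0, false⟩) (band (lall (memL L) []) (lall (memL L) [])) = true := by decide +kernel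

theorem cov1 : T.cover 1 [(Nat.shiftLeft 1 0)] = true := by decide +kernel

theorem tl1 : Nat.beq (T.let 1).tt 0 = true := by decide +kernel

theorem ep1a : T.treePath [] (Nat.shiftLeft 1 0) 1 = true := by decide +kernel

theorem ep1b : T.treePath [] (Nat.shiftLeft 1 0) 1 = true := by decide +kernel

theorem ep1c : band (lall (fun z => Nat.ble z 255) ([] ++ 2 :: [])) (concl F IV 571 0x48001 (encA ([] ++ 2 :: []) 0)) = true := by decide +kernel

theorem ep1d : band (Rule.ok (2 * 12) EX [] ⟨lapp [] [], [], 0, false⟩) (band (lall (memL L) []) (lall (memL L) [])) = true := by decide +kernel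

theorem cov2 : T.cover 2 [(Nat.shiftLeft 1 0)] = true := by decide +kernel

theorem tl2 : Nat.beq (T.let 2).tt 0 = true := by decide +kernel

theorem ep2a : T.treePath [] (Nat.shiftLeft 1 0) 1 = true := by decide +kernel

theorem ep2b : T.treePath [] (Nat.shiftLeft 1 0) 1 = true := by decide +kernel

theorem ep2c : band (lall (fun z => Nat.ble z 255) ([] ++ 3 :: [])) (concl F IV 571 0x54001 (encA ([] ++ 3 :: []) 0)) = true := by decide +kernel

theorem ep2d : band (Rule.ok (2 * 12) EX [] ⟨lapp [] [], [], 0, false⟩) (band (lall (memL L) []) (lall (memL L) [])) = true := by decide +kernel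

theorem cov3 : T.cover 3 [(Nat.shiftLeft 1 0)] = true := by decide +kernel

theorem tl3 : Nat.beq (T.let 3).tt 0 = true := by decide +kernel

theorem ep3a : T.treePath [] (Nat.shiftLeft 1 0) 1 = true := by decide +kernel

theorem ep3b : T.treePath [] (Nat.shiftLeft 1 0) 1 = true := by decide +kernel

theorem ep3c : band (lall (fun z => Nat.ble z 255) ([] ++ 4 :: [])) (concl F IV 571 0x64801 (encA ([] ++ 4 :: []) 0)) = true := by decide +kernel

theorem ep3d : band (Rule.ok (2 * 12) EX [] ⟨lapp [] [], [], 0, false⟩) (band (lall (memL L) []) (lall (memL L) [])) = true := by decide +kernel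

theorem cov4 : T.cover 4 [(Nat.shiftLeft 1 0)] = true := by decide +kernel

theorem tl4 : Nat.beq (T.let 4).tt 0 = true := by decide +kernel

theorem ep4a : T.treePath [] (Nat.shiftLeft 1 0) 1 = true := by decide +kernel

theorem ep4b : T.treePath [] (Nat.shiftLeft 1 0) 1 = true := by decide +kernel

theorem ep4c : band (lall (fun z => Nat.ble z 255) ([] ++ 5 :: [])) (concl F IV 571 0x7a801 (encA ([] ++ 5 :: []) 0)) = true := by decide +kernel

theorem ep4d : band (Rule.ok (2 * 12) EX [] ⟨lapp [] [], [], 0, false⟩) (band (lall (memL L) []) (lall (memL L) [])) = true := by decide +kernel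

theorem cov5 : T.cover 5 [(Nat.shiftLeft 1 0)] = true := by decide +kernel

theorem tl5 : Nat.beq (T.let 5).tt 0 = true := by decide +kernel

theorem ep5a : T.treePath [] (Nat.shiftLeft 1 0) 1 = true := by decide +kernel

theorem ep5b : T.treePath [] (Nat.shiftLeft 1 0) 1 = true := by decide +kernel

theorem ep5c : band (lall (fun z => Nat.ble z 255) ([] ++ 6 :: [])) (concl F IV 571 0x97001 (encA ([] ++ 6 :: []) 0)) = true := by decide +kernel

theorem ep5d : band (Rule.ok (2 * 12) EX [] ⟨lapp [] [], [], 0, false⟩) (band (lall (memL L) []) (lall (memL L) [])) = true := by decide +kernel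

theorem cov6 : T.cover 6 [(Nat.shiftLeft 1 0)] = true := by decide +kernel

theorem tl6 : Nat.beq (T.let 6).tt 0 = true := by decide +kernel

theorem ep6a : T.treePath [] (Nat.shiftLeft 1 0) 1 = true := by decide +kernel

theorem ep6b : T.treePath [] (Nat.shiftLeft 1 0) 1 = true := by decide +kernel

theorem ep6c : band (lall (fun z => Nat.ble z 255) ([] ++ 7 :: [])) (concl F IV 571 0xbb001 (encA ([] ++ 7 :: []) 0)) = true := by decide +kernel

theorem ep6d : band (Rule.ok (2 * 12) EX [] ⟨lapp [] [], [], 0, false⟩) (band (lall (memL L) []) (lall (memL L) [])) = true := by decide +kernel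

theorem cov7 : T.cover 7 [(Nat.shiftLeft 1 0)] = true := by decide +kernel

theorem tl7 : Nat.beq (T.let 7).tt 0 = true := by decide +kernel

theorem ep7a : T.treePath [] (Nat.shiftLeft 1 0) 1 = true := by decide +kernel

theorem ep7b : T.treePath [] (Nat.shiftLeft 1 0) 1 = true := by decide +kernel

theorem ep7c : band (lall (fun z => Nat.ble z 255) ([] ++ 8 :: [])) (concl F IV 571 0xd1001 (encA ([] ++ 8 :: []) 0)) = true := by decide +kernel

theorem ep7d : band (Rule.ok (2 * 12) EX [] ⟨lapp [] [], [], 0, false⟩) (band (lall (memL L) []) (lall (memL L) [])) = true := by decide +kernel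

theorem cov8 : T.cover 8 [(Nat.shiftLeft 1 0)] = true := by decide +kernel

theorem tl8 : Nat.beq (T.let 8).tt 0 = true := by decide +kernel

theorem ep8a : T.treePath [] (Nat.shiftLeft 1 0) 1 = true := by decide +kernel

theorem ep8b : T.treePath [] (Nat.shiftLeft 1 0) 1 = true := by decide +kernel

theorem ep8c : band (lall (fun z => Nat.ble z 255) ([] ++ 9 :: [])) (concl F IV 571 0xed801 (encA ([] ++ 9 :: []) 0)) = true := by decide +kernel

theorem ep8d : band (Rule.ok (2 * 12) EX [] ⟨lapp [] [], [], 0, false⟩) (band (lall (memL L) []) (lall (memL L) [])) = true := by decide +kernel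

theorem cov9 : T.cover 9 [(Nat.shiftLeft 1 0)] = true := by decide +kernel

theorem tl9 : Nat.beq (T.let 9).tt 0 = true := by decide +kernel

theorem ep9a : T.treePath [] (Nat.shiftLeft 1 0) 1 = true := by decide +kernel

theorem ep9b : T.treePath [] (Nat.shiftLeft 1 0) 1 = true := by decide +kernel

theorem ep9c : band (lall (fun z => Nat.ble z 255) ([] ++ 10 :: [])) (concl F IV 571 0x11a001 (encA ([] ++ 10 :: []) 0)) = true := by decide +kernel

theorem ep9d : band (Rule.ok (2 * 12) EX [] ⟨lapp [] [], [], 0, false⟩) (band (lall (memL L) []) (lall (memL L) [])) = true := by decide +kernel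

theorem cov10 : T.cover 10 [(Nat.shiftLeft 1 0)] = true := by decide +kernel

theorem tl10 : Nat.beq (T.let 10).tt 0 = true := by decide +kernel

theorem ep10a : T.treePath [] (Nat.shiftLeft 1 0) 1 = true := by decide +kernel

theorem ep10b : T.treePath [] (Nat.shiftLeft 1 0) 1 = true := by decide +kernel

theorem ep10c : band (lall (fun z => Nat.ble z 255) ([] ++ 11 :: [])) (concl F IV 571 0x11b001 (encA ([] ++ 11 :: []) 0)) = true := by decide +kernel

theorem ep10d : band (Rule.ok (2 * 12) EX [] ⟨lapp [] [], [], 0, false⟩) (band (lall (memL L) []) (lall (memL L) [])) = true := by decide +kernel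

theorem cov11 : T.cover 11 [(Nat.shiftLeft 1 0)] = true := by decide +kernel

theorem tl11 : Nat.beq (T.let 11).tt 0 = true := by decide +kernel

theorem ep11a : T.treePath [] (Nat.shiftLeft 1 0) 1 = true := by decide +kernel

theorem ep11b : T.treePath [] (Nat.shiftLeft 1 0) 1 = true := by decide +kernel

theorem ep11c : band (lall (fun z => Nat.ble z 255) ([] ++ 12 :: [])) (concl F IV 571 0x11d001 (encA ([] ++ 12 :: []) 0)) = true := by decide +kernel

theorem ep11d : band (Rule.ok (2 * 12) EX [] ⟨lapp [] [], [], 0, false⟩) (band (lall (memL L) []) (lall (memL L) [])) = true := by decide +kernel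

theorem cov12 : T.cover 12 [(Nat.shiftLeft 1 0)] = true := by decide +kernel

theorem tl12 : Nat.beq (T.let 12).tt 0 = true := by decide +kernel

end Cfsg.Agent.Spor.Fi24N1
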